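import Cfsg.Agent.H62.SecKernel
import Cfsg.Agent.S4710
import Cfsg.Agent.CharactersDeep.ModCongr
import Cfsg.Agent.H634.Fus

/-!
# `p = 3`, Sylow subgroups of order nine: the principal block does not have exactly four characters (S4615, T15)
-/

set_option autoImplicit false

open Cfsg

namespace Cfsg.Agent.H248.K4

open Cfsg.Agent.H634.Fus
open scoped ComplexConjugate

universe u

section

variable {G : Type u} [Group G] [Finite G] {M : Ideal AlgInt}

omit [Finite G] in
theorem sInf_principal {p : ℕ} (hM : IsPModular p M) :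
    sInf ((fun ψ : IrrCharacter G => (charDegree (ψ : G → ℂ)).factorization p) '' principalBlock M G) = 0 := by
  have hMp : M.IsPrime := hM.2.1.isPrime
  apply Nat.le_zero.1
  have h1 : charDegree (fun _ : G => (1 : ℂ)) = 1 := Blocks.Basic.charDegree_of_eq (by simp)
  have h2 : (charDegree (fun _ : G => (1 : ℂ))).factorization p = 0 := by
    rw [h1]; simp
  have h3 : (charDegree (fun _ : G => (1 : ℂ))).factorization p ∈
      ((fun ψ : IrrCharacter G => (charDegree (ψ : G → ℂ)).factorization p) ''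
        principalBlock M G) :=
    ⟨⟨fun _ => 1, Blocks.Basic.isIrrCharacter_one⟩,
      Blocks.PrincipalSection.one_mem_principalBlock, rfl⟩
  rw [h2] at h3
  exact Nat.sInf_le h3

/-- The degrees in the principal block are prime to `p` if the Sylow `p`-subgroups have order `p²`. -/
theorem not_dvd_degree {p : ℕ} [hp : Fact p.Prime] (hM : IsPModular p M) (P : Sylow p G) (hP : Nat.card P = p ^ 2)
    {χ : IrrCharacter G} (hχ : χ ∈ principalBlock M G) : ¬ p ∣ charDegree (χ : G → ℂ) := by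
  have hfac : (Nat.card G).factorization p = 2 := by
    have h1 : Nat.card P = p ^ (Nat.card G).factorization p := P.card_eq_multiplicity
    rw [hP] at h1
    exact (Nat.pow_right_injective hp.out.two_le h1).symm
  have hd : blockDefect p (principalBlock M G) = 2 := by
    rw [blockDefect, sInf_principal hM, hfac]
  have h1 := ((S4710.result p M hM (principalBlock M G) Blocks.PrincipalSection.isPBlock_principalBlock 2 hd).2 χ hχ).2 le_rfl
  rw [blockHeight, sInf_principal hM, Nat.sub_zero, Nat.le_zero] at h1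
  intro h2
  have h3 := (hp.out.dvd_iff_one_le_factorization (Blocks.Basic.charDegree_pos χ.2).ne').1 h2
  omega

theorem nine_false [hp : Fact (Nat.Prime 3)]
    (hM : IsPModular 3 M) (_hC : OneClass 3 G) (hk : Nat.card (principalBlock M G) = 4)
    (P : Sylow 3 G) (hP : Nat.card P = 9) : False := by
  classical
  have hMp : M.IsPrime := hM.2.1.isPrime
  have hdeg : ∀ χ ∈ principalBlock M G, ¬ 3 ∣ charDegree (χ : G → ℂ) := fun χ hχ =>
    not_dvd_degree hM P (by rw [hP]; norm_num) hχ
  -- an element of order three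
  obtain ⟨x, hx⟩ : ∃ x : G, orderOf x = 3 := by
    apply exists_prime_orderOf_dvd_card' 3
    have h1 := Subgroup.card_subgroup_dvd_card (P : Subgroup G)
    have h2 : Nat.card (P : Subgroup G) = 9 := hP
    rw [h2] at h1
    exact (by norm_num : 3 ∣ 9).trans h1
  have hxp : ∃ k : ℕ, orderOf x = 3 ^ k := ⟨1, by rw [hx, pow_one]⟩
  set C := Subgroup.centralizer ({x} : Set G) with hCd
  have hxC : x ∈ C := Subgroup.mem_centralizer_singleton_iff.2 rfl
  let U : Subgroup C := Subgroup.zpowers ⟨x, hxC⟩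
  have hU : U ≤ Subgroup.center C := by
    rw [Subgroup.zpowers_le, Subgroup.mem_center_iff]
    intro g
    apply Subtype.ext
    exact Subgroup.mem_centralizer_singleton_iff.1 g.2
  have hUn : U.Normal := ⟨fun n hn g => by
    rw [Subgroup.mem_center_iff.1 (hU hn) g, mul_inv_cancel_right]
    exact hn⟩
  have hUc : Nat.card U = 3 := by
    rw [Nat.card_zpowers, ← Subgroup.orderOf_coe]
    exact hx
  have hUp : IsPGroup 3 U := IsPGroup.of_card (n := 1) (by rw [hUc, pow_one])
  have h1 : ¬ 3 ∣ orderOf (1 : C) := by rw [orderOf_one]; norm_num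
  have e1 := H62.SecKernel.kernel hM hxp (1 : C) 1 h1 h1
  rw [H62.SecKernel.kernel_quot hM U hU hUp 1 1 h1 h1, hUc, Subgroup.coe_one, mul_one] at e1
  -- the right hand side
  obtain ⟨N, hN⟩ : ∃ N : ℕ, ∑ᶠ θ ∈ principalBlock M (C ⧸ U), (θ : C ⧸ U → ℂ) ((1 : C) : C ⧸ U) *
      (starRingEnd ℂ) ((θ : C ⧸ U → ℂ) ((1 : C) : C ⧸ U)) = N := by
    have hfin : Finite (IrrCharacter (C ⧸ U)) := Characters.Core.finite_irr
    have := Fintype.ofFinite (IrrCharacter (C ⧸ U))
    rw [Blocks.Orthogonality.finsum_mem_eq_sum_filter]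
    refine ⟨∑ θ ∈ Finset.univ.filter (· ∈ principalBlock M (C ⧸ U)), charDegree (θ : C ⧸ U → ℂ) * charDegree (θ : C ⧸ U → ℂ), ?_⟩
    rw [Nat.cast_sum]
    refine Finset.sum_congr rfl fun θ _ => ?_
    rw [QuotientGroup.mk_one, Blocks.Basic.irr_one_eq_charDegree θ.2]
    simp
  rw [hN] at e1
  -- the left hand side
  have hfin : Finite (IrrCharacter G) := Characters.Core.finite_irr
  have hft := Fintype.ofFinite (IrrCharacter G)
  rw [Blocks.Orthogonality.finsum_mem_eq_sum_filter] at e1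
  set B : Finset (IrrCharacter G) := Finset.univ.filter (· ∈ principalBlock M G) with hB
  have hBc : B.card = 4 := by
    rw [← hk, hB, Nat.card_eq_fintype_card, Fintype.card_subtype]
  let v : IrrCharacter G → AlgInt := fun χ => ⟨(χ : G → ℂ) x, CharactersDeep.ModCongr.isIntegral_irr χ.2 x⟩
  let w : IrrCharacter G → AlgInt := fun χ => ⟨(χ : G → ℂ) x⁻¹, CharactersDeep.ModCongr.isIntegral_irr χ.2 x⁻¹⟩
  have key : ∀ (χ : IrrCharacter G) (y : G), orderOf y = 3 →
      (⟨(χ : G → ℂ) y, CharactersDeep.ModCongr.isIntegral_irr χ.2 y⟩ : AlgInt) - (charDegree (χ : G → ℂ) : AlgInt) ∈ M := by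
    intro χ y hy
    rw [← CharactersDeep.ModCongr.memLocalIdeal_coe_iff hMp]
    have h2 := CharactersDeep.ModCongr.memLocalIdeal_character_sub hM χ.2 y y
      ⟨1, mul_one y, Commute.one_right y, ⟨1, by rw [hy, pow_one]⟩, by rw [orderOf_one]; norm_num⟩
    rw [inv_mul_cancel, Blocks.Basic.irr_one_eq_charDegree χ.2] at h2
    simpa using h2
  have e2 : ∑ χ ∈ B, v χ * w χ = 3 * (N : AlgInt) := by
    apply Subtype.ext
    have e3 : ((∑ χ ∈ B, v χ * w χ : AlgInt) : ℂ) = ∑ χ ∈ B, (χ : G → ℂ) x * conj ((χ : G → ℂ) x) := by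
      rw [AddSubmonoidClass.coe_finsetSum]
      refine Finset.sum_congr rfl fun χ _ => ?_
      change (χ : G → ℂ) x * (χ : G → ℂ) x⁻¹ = _
      rw [Blocks.Orthogonality.irr_apply_inv χ.2]
    rw [e3, e1]
    push_cast
    rfl
  have e4 : ∑ χ ∈ B, v χ * w χ - ((∑ χ ∈ B, charDegree (χ : G → ℂ) * charDegree (χ : G → ℂ) : ℕ) : AlgInt) ∈ M := by
    rw [Nat.cast_sum, ← Finset.sum_sub_distrib]
    refine M.sum_mem fun χ _ => ?_
    have h2 := key χ x hx
    have h3 := key χ x⁻¹ (by rw [orderOf_inv, hx])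
    have h4 : v χ * w χ - ((charDegree (χ : G → ℂ) * charDegree (χ : G → ℂ) : ℕ) : AlgInt) =
        w χ * (v χ - (charDegree (χ : G → ℂ) : AlgInt)) +
          (charDegree (χ : G → ℂ) : AlgInt) * (w χ - (charDegree (χ : G → ℂ) : AlgInt)) := by
      push_cast
      ring
    rw [h4]
    exact M.add_mem (M.mul_mem_left _ h2) (M.mul_mem_left _ h3)
  have e5 : ((∑ χ ∈ B, charDegree (χ : G → ℂ) * charDegree (χ : G → ℂ) : ℕ) : AlgInt) ∈ M := by
    have h2 : (3 : AlgInt) * (N : AlgInt) ∈ M := M.mul_mem_right _ (by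
      have := hM.2.2
      exact_mod_cast this)
    have h3 := M.sub_mem h2 (e2 ▸ e4)
    simpa using h3
  have e6 := (CharactersDeep.ModCongr.natCast_mem_iff hM _).1 e5
  have e7 : (∑ χ ∈ B, charDegree (χ : G → ℂ) * charDegree (χ : G → ℂ)) % 3 = 1 := by
    rw [Finset.sum_nat_mod]
    have h2 : ∀ χ ∈ B, charDegree (χ : G → ℂ) * charDegree (χ : G → ℂ) % 3 = 1 := by
      intro χ hχ
      have h3 := hdeg χ (Finset.mem_filter.1 hχ).2
      have h4 : charDegree (χ : G → ℂ) % 3 = 1 ∨ charDegree (χ : G → ℂ) % 3 = 2 := by omega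
      rcases h4 with h4 | h4 <;> simp [Nat.mul_mod, h4]
    rw [Finset.sum_congr rfl h2, Finset.sum_const, hBc]
    rfl
  omega

end

end Cfsg.Agent.H248.K4
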