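import Mathlib

/-!
# A numerical lemma (S4615, T11)
-/

set_option autoImplicit false

namespace Cfsg.Agent.H248.K4

theorem mod_three : ∀ u1 u2 u3 b1 b2 b3 : ZMod 3, u1 ^ 2 + u2 ^ 2 + u3 ^ 2 = 1 → b1 ^ 2 + b2 ^ 2 + b3 ^ 2 = 1 →
    u1 * b1 + u2 * b2 + u3 * b3 = -1 → ∀ d1 d2 d3 : ZMod 3, d1 * b1 + d2 * b2 + d3 * b3 = 0 →
    d1 * u1 + d2 * u2 + d3 * u3 = -1 → False := by decide +kernel

/-- a square coprime part -/
theorem sq_left {a b c : ℤ} (h : IsCoprime a b) (ha : 0 < a) (heq : a * b = c ^ 2) : ∃ d, a = d ^ 2 := by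
  obtain ⟨d, hd | hd⟩ := Int.sq_of_isCoprime h heq
  · exact ⟨d, hd⟩
  · have := sq_nonneg d
    omega

theorem sq_mod_eight (v : ℤ) : v ^ 2 % 8 = 0 ∨ v ^ 2 % 8 = 1 ∨ v ^ 2 % 8 = 4 := by
  have h : v % 8 = 0 ∨ v % 8 = 1 ∨ v % 8 = 2 ∨ v % 8 = 3 ∨ v % 8 = 4 ∨ v % 8 = 5 ∨ v % 8 = 6 ∨ v % 8 = 7 := by omega
  rcases h with h | h | h | h | h | h | h | h <;> simp [pow_two, Int.mul_emod, h]

theorem sq_mod_three (v : ℤ) : v ^ 2 % 3 = 0 ∨ v ^ 2 % 3 = 1 := by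
  have h : v % 3 = 0 ∨ v % 3 = 1 ∨ v % 3 = 2 := by omega
  rcases h with h | h | h <;> simp [pow_two, Int.mul_emod, h]

/-- `t (4 t + 3) (5 t + 2)` is not a square for `t = 2` mod 3. -/
theorem not_sq {t δ : ℤ} (ht : 0 < t) (h3 : t % 3 = 2) (h : t * ((4 * t + 3) * (5 * t + 2)) = δ ^ 2) : False := by
  obtain ⟨k, hk⟩ : ∃ k, t = 3 * k + 2 := ⟨t / 3, by omega⟩
  have c1 : IsCoprime t (4 * t + 3) := by
    refine ⟨-1 - 4 * (k + 1), k + 1, ?_⟩
    rw [hk]; ring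
  rcases Int.even_or_odd t with he | ho
  · obtain ⟨s, hs⟩ := he
    have hs2 : t = 2 * s := by omega
    subst hs2
    have hδ : (2 : ℤ) ∣ δ := by
      have : (2 : ℤ) ∣ δ ^ 2 := by
        rw [← h]
        exact ⟨s * ((4 * (2 * s) + 3) * (5 * (2 * s) + 2)), by ring⟩
      exact Int.prime_two.dvd_of_dvd_pow this
    obtain ⟨ε, rfl⟩ := hδ
    have h1 : s * ((8 * s + 3) * (5 * s + 1)) = ε ^ 2 := by nlinarith
    have hs3 : ∃ l, s = 3 * l + 1 := ⟨s / 3, by omega⟩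
    obtain ⟨l, hl⟩ := hs3
    have c2 : IsCoprime s (8 * s + 3) := by
      refine ⟨1 + 8 * l, -l, ?_⟩
      rw [hl]; ring
    have c3 : IsCoprime s (5 * s + 1) := ⟨-5, 1, by ring⟩
    have c4 : IsCoprime ((8 * s + 3) * (5 * s + 1)) s := (c2.mul_right c3).symm
    have hpos : 0 < (8 * s + 3) * (5 * s + 1) := mul_pos (by omega) (by omega)
    obtain ⟨v, hv⟩ := sq_left c4 hpos (by rw [mul_comm]; exact h1)
    by_cases h7 : (7 : ℤ) ∣ 8 * s + 3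
    · obtain ⟨m, hm⟩ := h7
      have h8 : (7 : ℤ) ∣ 5 * s + 1 := by omega
      obtain ⟨n, hn⟩ := h8
      have hv7 : (7 : ℤ) ∣ v := by
        have h9 : (7 : ℤ) ∣ v ^ 2 := by
          rw [← hv, hm, mul_assoc]
          exact dvd_mul_right _ _
        exact (Int.prime_iff_natAbs_prime.2 (by norm_num)).dvd_of_dvd_pow h9
      obtain ⟨x, rfl⟩ := hv7
      have h9 : m * n = x ^ 2 := by
        rw [hm, hn] at hv
        have : 49 * (m * n) = 49 * x ^ 2 := by linear_combination hv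
        omega
      have c5 : IsCoprime m n := by
        refine ⟨5, -8, ?_⟩
        have : 7 * (5 * m + -8 * n) = 7 := by linear_combination (-5) * hm + 8 * hn
        omega
      obtain ⟨d, hd⟩ := sq_left c5 (by omega) h9
      have := sq_mod_eight d
      omega
    · have c5 : IsCoprime (8 * s + 3) (5 * s + 1) := by
        have h10 : IsCoprime (8 * s + 3) 7 := by
          rw [Int.isCoprime_iff_gcd_eq_one, Int.gcd_comm]
          exact Int.isCoprime_iff_gcd_eq_one.1 (((Int.prime_iff_natAbs_prime.2 (by norm_num : (Int.natAbs 7).Prime)).coprime_iff_not_dvd).2 h7)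
        obtain ⟨x, y, hxy⟩ := h10
        refine ⟨x + 5 * y, -8 * y, ?_⟩
        linear_combination hxy
      obtain ⟨d, hd⟩ := sq_left c5 (by omega) hv
      have := sq_mod_eight d
      omega
  · obtain ⟨j, hj⟩ := ho
    have c2 : IsCoprime t (5 * t + 2) := by
      refine ⟨1 - 5 * (-j), -j, ?_⟩
      rw [hj]; ring
    obtain ⟨d, hd⟩ := sq_left (c1.mul_right c2) ht h
    have := sq_mod_three d
    omega

theorem no88 (δ : ℤ) (h : δ ^ 2 = 88) : False := by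
  have h1 : δ ≤ 9 := by nlinarith
  have h2 : -9 ≤ δ := by nlinarith
  interval_cases δ <;> norm_num at h

theorem no224 (δ : ℤ) (h : δ ^ 2 = 224) : False := by
  have h1 : δ ≤ 14 := by nlinarith
  have h2 : -14 ≤ δ := by nlinarith
  interval_cases δ <;> norm_num at h

theorem numeric {ι : Type*} (B : Finset ι) (hB : B.card = 4) {o : ι} (ho : o ∈ B)
    (a b ν D : ι → ℤ) (p t : ℕ) (α ν₀ : ℤ) (hα : α = 1 ∨ α = -1) (hν₀ : ν₀ = 1 ∨ ν₀ = -1)
    (hν : ∀ i ∈ B, ν i = 1 ∨ ν i = -1)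
    (hao : a o = 1) (hbo : b o = 0) (hνo : ν o = 1) (hDo : D o = 1)
    (haa : ∑ i ∈ B, a i ^ 2 = p * (1 + t)) (hbb : ∑ i ∈ B, b i ^ 2 = p * (1 + t))
    (hab : ∑ i ∈ B, a i * b i = α * p * t)
    (hνa : ∑ i ∈ B, ν i * a i = 1 + t * ν₀ * α) (hνb : ∑ i ∈ B, ν i * b i = ν₀ * (1 + t))
    (hDa : ∑ i ∈ B, D i * a i = 0) (hDb : ∑ i ∈ B, D i * b i = 0)
    (hp : p.Prime)
    (hc : (p = 2 * t + 1 ∧ 5 ≤ p) ∨ (p = 3 ∧ t = 4) ∨ (p = 5 ∧ t = 12)) : False := by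
  classical
  have hcard : (B.erase o).card = 3 := by rw [Finset.card_erase_of_mem ho, hB]
  obtain ⟨i, j, k, hij, hik, hjk, hE⟩ := Finset.card_eq_three.1 hcard
  have hsum : ∀ f : ι → ℤ, ∑ i ∈ B, f i = f o + (f i + f j + f k) := by
    intro f
    rw [← Finset.add_sum_erase _ _ ho, hE, Finset.sum_insert (by simp [hij, hik]), Finset.sum_insert (by simp [hjk]),
      Finset.sum_singleton, add_assoc (f i)]
  rw [hsum] at haa hbb hab hνa hνb hDa hDb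
  have hmem : ∀ l, l ∈ ({i, j, k} : Finset ι) → l ∈ B := fun l hl => Finset.mem_of_mem_erase (hE ▸ hl)
  have hνi := hν i (hmem i (by simp))
  have hνj := hν j (hmem j (by simp))
  have hνk := hν k (hmem k (by simp))
  rw [hao, hbo] at hab
  rw [hao] at haa hνa hDa
  rw [hbo] at hbb hνb hDb
  rw [hνo] at hνa hνb
  rw [hDo] at hDa hDb
  have hα2 : α ^ 2 = 1 := by rcases hα with rfl | rfl <;> norm_num
  have hν2 : ν₀ ^ 2 = 1 := by rcases hν₀ with rfl | rfl <;> norm_num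
  have hi2 : ν i ^ 2 = 1 := by rcases hνi with h | h <;> rw [h] <;> norm_num
  have hj2 : ν j ^ 2 = 1 := by rcases hνj with h | h <;> rw [h] <;> norm_num
  have hk2 : ν k ^ 2 = 1 := by rcases hνk with h | h <;> rw [h] <;> norm_num
  obtain ⟨u1, hu1⟩ : ∃ u, u = a i - α * b i := ⟨_, rfl⟩
  obtain ⟨u2, hu2⟩ : ∃ u, u = a j - α * b j := ⟨_, rfl⟩
  obtain ⟨u3, hu3⟩ : ∃ u, u = a k - α * b k := ⟨_, rfl⟩
  obtain ⟨b1, hb1⟩ : ∃ u, u = α * b i := ⟨_, rfl⟩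
  obtain ⟨b2, hb2⟩ : ∃ u, u = α * b j := ⟨_, rfl⟩
  obtain ⟨b3, hb3⟩ : ∃ u, u = α * b k := ⟨_, rfl⟩
  have eA : u1 ^ 2 + u2 ^ 2 + u3 ^ 2 = 2 * p - 1 := by
    rw [hu1, hu2, hu3]
    linear_combination haa + α ^ 2 * hbb - 2 * α * hab + (p * (1 + t) - 2 * p * t : ℤ) * hα2
  have eB : b1 ^ 2 + b2 ^ 2 + b3 ^ 2 = p * (1 + t) := by
    rw [hb1, hb2, hb3]
    linear_combination α ^ 2 * hbb + (p * (1 + t) : ℤ) * hα2
  have eX : u1 * b1 + u2 * b2 + u3 * b3 = -p := by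
    rw [hu1, hu2, hu3, hb1, hb2, hb3]
    linear_combination α * hab - α ^ 2 * hbb + (p * t - p * (1 + t) : ℤ) * hα2
  have eY : u1 * ν i + u2 * ν j + u3 * ν k = -(α * ν₀) := by
    rw [hu1, hu2, hu3]
    linear_combination hνa - α * hνb
  have eZ : b1 * ν i + b2 * ν j + b3 * ν k = α * ν₀ * (1 + t) := by
    rw [hb1, hb2, hb3]
    linear_combination α * hνb
  have eD : D i * u1 + D j * u2 + D k * u3 = -1 := by
    rw [hu1, hu2, hu3]
    linear_combination hDa - α * hDb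
  have eE : D i * b1 + D j * b2 + D k * b3 = 0 := by
    rw [hb1, hb2, hb3]
    linear_combination α * hDb
  obtain ⟨δ, hδ⟩ : ∃ δ : ℤ, δ = u1 * (b2 * ν k - b3 * ν j) - u2 * (b1 * ν k - b3 * ν i) + u3 * (b1 * ν j - b2 * ν i) :=
    ⟨_, rfl⟩
  have hgram : δ ^ 2 = (u1 ^ 2 + u2 ^ 2 + u3 ^ 2) * (b1 ^ 2 + b2 ^ 2 + b3 ^ 2) * (ν i ^ 2 + ν j ^ 2 + ν k ^ 2) +
      2 * (u1 * b1 + u2 * b2 + u3 * b3) * (u1 * ν i + u2 * ν j + u3 * ν k) * (b1 * ν i + b2 * ν j + b3 * ν k) -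
      (u1 ^ 2 + u2 ^ 2 + u3 ^ 2) * (b1 * ν i + b2 * ν j + b3 * ν k) ^ 2 -
      (b1 ^ 2 + b2 ^ 2 + b3 ^ 2) * (u1 * ν i + u2 * ν j + u3 * ν k) ^ 2 -
      (ν i ^ 2 + ν j ^ 2 + ν k ^ 2) * (u1 * b1 + u2 * b2 + u3 * b3) ^ 2 := by
    rw [hδ]; ring
  rw [eA, eB, eX, eY, eZ, hi2, hj2, hk2] at hgram
  have hdet : δ ^ 2 = 3 * p * (2 * p - 1) * (1 + t) + p * (1 + t) - (2 * p - 1) * (1 + t) ^ 2 - 3 * p ^ 2 := by
    linear_combination hgram + (2 * p * (1 + t) * ν₀ ^ 2 - (2 * p - 1) * (1 + t) ^ 2 * ν₀ ^ 2 - p * (1 + t) * ν₀ ^ 2 : ℤ) * hα2 +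
      (2 * p * (1 + t) - (2 * p - 1) * (1 + t) ^ 2 - p * (1 + t) : ℤ) * hν2
  rcases hc with ⟨hpt, h5⟩ | ⟨rfl, rfl⟩ | ⟨rfl, rfl⟩
  · -- `p = 2 t + 1`
    have h3 : p % 3 = 1 ∨ p % 3 = 2 := by
      have : p % 3 ≠ 0 := fun h => by
        have := (Nat.prime_dvd_prime_iff_eq Nat.prime_three hp).1 (Nat.dvd_of_mod_eq_zero h)
        omega
      omega
    rcases h3 with h3 | h3
    · -- `p = 1` mod 3
      obtain ⟨s, hs⟩ : ∃ s, t = 3 * s := ⟨t / 3, by omega⟩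
      have z3 : (3 : ZMod 3) = 0 := by decide
      have hp3 : ((p : ℤ) : ZMod 3) = 1 := by
        rw [hpt, hs]
        push_cast
        linear_combination (2 * (s : ZMod 3)) * z3
      have ht3 : ((t : ℤ) : ZMod 3) = 0 := by
        rw [hs]
        push_cast
        linear_combination (s : ZMod 3) * z3
      have f1 := congrArg (Int.cast : ℤ → ZMod 3) eA
      have f2 := congrArg (Int.cast : ℤ → ZMod 3) eB
      have f3 := congrArg (Int.cast : ℤ → ZMod 3) eX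
      have f4 := congrArg (Int.cast : ℤ → ZMod 3) eE
      have f5 := congrArg (Int.cast : ℤ → ZMod 3) eD
      push_cast at f1 f2 f3 f4 f5
      have hp3' : (p : ZMod 3) = 1 := by exact_mod_cast hp3
      have ht3' : (t : ZMod 3) = 0 := by exact_mod_cast ht3
      rw [hp3'] at f1 f2 f3
      rw [ht3'] at f2
      refine mod_three u1 u2 u3 b1 b2 b3 ?_ ?_ f3 (D i) (D j) (D k) f4 f5
      · rw [f1]; decide
      · rw [f2]; decide
    · have hpt' : (p : ℤ) = 2 * t + 1 := by exact_mod_cast hpt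
      refine not_sq (t := t) (δ := δ) (by omega) (by omega) ?_
      rw [hdet, hpt']
      ring
  · exact no88 δ (by rw [hdet]; norm_num)
  · exact no224 δ (by rw [hdet]; norm_num)

end Cfsg.Agent.H248.K4
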